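import Groth.Agent.EtHDesc.HTop
import Groth.Agent.S5985
import Groth.Agent.UnivOpen.Conditions
import Groth.Agent.BrnchNbhd.Scheme
import Groth.Agent.BrnchNbhd.Unibranch
import Groth.Agent.BrnchLib.Compl
import Groth.Agent.AlgSpDec.LimQuasiFinite

/-!
# Universally open coverings are refined etale locally by finite surjections
-/

set_option autoImplicit false

universe u

open CategoryTheory CategoryTheory.Limits AlgebraicGeometry TopologicalSpace

namespace Groth.Agent.EtHDesc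

/-- The generic points of irreducible components through a point. -/
def GP {U : Scheme.{u}} (u : U) : Set U := {ξ | ξ ∈ genericPoints U ∧ ξ ⤳ u}

theorem GP_max {U : Scheme.{u}} {u ξ : U} (h : ξ ∈ GP u) : ∀ z, z ⤳ ξ → z = ξ :=
  (RadPtUnib.mem_genericPoints_iff ξ).1 h.1

theorem exists_GP {U : Scheme.{u}} {u a : U} (h : a ⤳ u) : ∃ ξ ∈ GP u, ξ ⤳ a := by
  refine ⟨(genericPoints.ofComponent ⟨irreducibleComponent a, irreducibleComponent_mem_irreducibleComponents a⟩).1,
    ⟨(genericPoints.ofComponent _).2, ?_⟩, ?_⟩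
  · exact ((genericPoints.isGenericPoint_ofComponent _).specializes mem_irreducibleComponent).trans h
  · exact (genericPoints.isGenericPoint_ofComponent _).specializes mem_irreducibleComponent

theorem GP_map {U V : Scheme.{u}} (g : V ⟶ U) [Flat g] {v ξ : V} (h : ξ ∈ GP v) : g ξ ∈ GP (g v) := by
  refine ⟨(RadPtUnib.mem_genericPoints_iff _).2 fun a ha => ?_, h.2.map g.continuous⟩
  obtain ⟨b, hb, rfl⟩ := Flat.generalizingMap g ha
  rw [GP_max h b hb]

theorem GP_of_map {U V : Scheme.{u}} (g : V ⟶ U) [Etale g] {v b : V} (hb : b ⤳ v) (h : g b ∈ GP (g v)) :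
    b ∈ GP v :=
  ⟨(RadPtUnib.mem_genericPoints_iff _).2 fun c hc =>
    AlgSpDec.eq_of_specializes_of_etale g (GP_max h _ (hc.map g.continuous)).symm hc, hb⟩

theorem GP_surj {U V : Scheme.{u}} (g : V ⟶ U) [Etale g] {v : V} : g '' GP v = GP (g v) := by
  refine Set.Subset.antisymm (Set.image_subset_iff.2 fun ξ h => GP_map g h) fun a ha => ?_
  obtain ⟨b, hb, rfl⟩ := Flat.generalizingMap g ha.2
  exact ⟨b, GP_of_map g hb ha, rfl⟩

theorem numBranchesAt_ne_top (Y : Scheme.{u}) [IsLocallyNoetherian Y] (y : Y) : Brnch.numBranchesAt Y y ≠ ⊤ := by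
  let A := Y.presheaf.stalk y
  haveI : IsNoetherianRing (Hensel.LocalHenz A) :=
    (Hensel.isHenzLike_of_isHenselization A (Hensel.LocalHenz A)).isNoetherianRing_iff.1 inferInstance
  rw [show Brnch.numBranchesAt Y y = Brnch.numBranches A from rfl,
    ← BrnchLib.card_minimalPrimes_henselization A (Hensel.LocalHenz A)]
  haveI := (minimalPrimes.finite_of_isNoetherianRing (Hensel.LocalHenz A)).to_subtype
  exact ENat.card_lt_top.2 inferInstance |>.ne

theorem encard_GP_le {Y U : Scheme.{u}} (y : Y) (g : U ⟶ Y) (u : U) (h : Hens2.IsEtaleNbhd g u y) :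
    (GP u).encard ≤ Brnch.numBranchesAt Y y := by
  rw [BrnchNbhd.numBranchesAt_eq]
  refine le_iSup_of_le U (le_iSup_of_le g (le_iSup_of_le u (le_iSup_of_le h ?_)))
  rw [BrnchNbhd.encard_components]
  rfl

theorem bijective_residueFieldMap_comp {X Y Z : Scheme.{u}} (f : X ⟶ Y) (g : Y ⟶ Z) (x : X)
    (hf : Function.Bijective (f.residueFieldMap x)) (hg : Function.Bijective (g.residueFieldMap (f x))) :
    Function.Bijective ((f ≫ g).residueFieldMap x) :=
  MorLib.EEF.bijective_rfm_comp f g x hf hg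

/-- An elementary neighbourhood on which the number of components through the point is maximal. -/
theorem exists_max_nbhd (Y : Scheme.{u}) [IsLocallyNoetherian Y] (y : Y) :
    ∃ (U : Scheme.{u}) (g : U ⟶ Y) (u : U), Hens2.IsEtaleNbhd g u y ∧ (GP u).Finite ∧
      ∀ (V : Scheme.{u}) (k : V ⟶ U) (v : V), Etale k → k v = u → Function.Bijective (k.residueFieldMap v) →
        (GP v).Finite ∧ Set.InjOn k (GP v) := by
  classical
  have hfin : ∀ (U : Scheme.{u}) (g : U ⟶ Y) (u : U), Hens2.IsEtaleNbhd g u y → (GP u).Finite := fun U g u h =>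
    Set.encard_ne_top_iff.1 (ne_top_of_le_ne_top (numBranchesAt_ne_top Y y) (encard_GP_le y g u h))
  let N : Set ℕ := {n | ∃ (U : Scheme.{u}) (g : U ⟶ Y) (u : U), Hens2.IsEtaleNbhd g u y ∧ (GP u).ncard = n}
  have hne : N.Nonempty := ⟨_, Y, 𝟙 Y, y, BrnchNbhd.isEtaleNbhd_id Y y, rfl⟩
  have hbdd : BddAbove N := by
    refine ⟨(Brnch.numBranchesAt Y y).toNat, ?_⟩
    rintro n ⟨U, g, u, h, rfl⟩
    rw [← ENat.coe_le_coe, ENat.natCast_toNat (numBranchesAt_ne_top Y y), (hfin U g u h).cast_ncard_eq]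
    exact encard_GP_le y g u h
  obtain ⟨U, g, u, h, hcard⟩ := Nat.sSup_mem hne hbdd
  refine ⟨U, g, u, h, hfin U g u h, fun V k v hk hkv hres => ?_⟩
  haveI := hk
  haveI := h.etale
  have hV : Hens2.IsEtaleNbhd (k ≫ g) v y := ⟨inferInstance,
    (Scheme.Hom.comp_apply k g v).trans ((congrArg g hkv).trans h.base_eq),
    bijective_residueFieldMap_comp k g v hres (hkv ▸ h.residue_bijective)⟩
  refine ⟨hfin V _ v hV, Set.injOn_of_ncard_image_eq (le_antisymm (Set.ncard_image_le (hfin V _ v hV)) ?_)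
    (hfin V _ v hV)⟩
  rw [GP_surj k, hkv, hcard]
  exact le_csSup hbdd ⟨V, k ≫ g, v, hV, rfl⟩

/-- A closed point of a fibre. -/
theorem exists_closed_in_fibre {X Y : Scheme.{u}} (f : X ⟶ Y) [LocallyOfFiniteType f] (y : Y)
    (hy : y ∈ Set.range f) : ∃ x, f x = y ∧ ∀ x', f x' = f x → x ⤳ x' → x' = x := by
  obtain ⟨a, ha⟩ := hy
  obtain ⟨z, -, hz⟩ := nonempty_inter_closedPoints (X := f.fiber y) (Z := Set.univ)
    ⟨(f.fiberHomeo y).symm ⟨a, ha⟩, trivial⟩ isOpen_univ.isLocallyClosed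
  refine ⟨(f.fiberHomeo y z).1, (f.fiberHomeo y z).2, fun x' hx' hs => ?_⟩
  let z' := (f.fiberHomeo y).symm ⟨x', hx'.trans (f.fiberHomeo y z).2⟩
  have hs' : z ⤳ z' := (f.fiberι y).isEmbedding.toIsInducing.specializes_iff.1 (by
    rw [Scheme.Hom.fiberι_fiberHomeo_symm]
    exact hs)
  have : z' = z := hs'.mem_closed (mem_closedPoints_iff.1 hz) rfl
  have := congrArg (f.fiberι y) this
  rwa [Scheme.Hom.fiberι_fiberHomeo_symm] at this

/-- The reduced closure of a point. -/
noncomputable def clPt {Y : Scheme.{u}} (ξ : Y) : Scheme.{u} :=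
  (Scheme.IdealSheafData.vanishingIdeal (⟨closure {ξ}, isClosed_closure⟩ : TopologicalSpace.Closeds Y)).subscheme

/-- The inclusion of the reduced closure of a point. -/
noncomputable def clPtι {Y : Scheme.{u}} (ξ : Y) : clPt ξ ⟶ Y :=
  (Scheme.IdealSheafData.vanishingIdeal (⟨closure {ξ}, isClosed_closure⟩ : TopologicalSpace.Closeds Y)).subschemeι

instance {Y : Scheme.{u}} (ξ : Y) : IsClosedImmersion (clPtι ξ) := by
  unfold clPtι clPt
  infer_instance

theorem range_clPtι {Y : Scheme.{u}} (ξ : Y) : Set.range (clPtι ξ) = closure {ξ} :=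
  DimFormula.range_vanishingIdeal (⟨closure {ξ}, isClosed_closure⟩ : TopologicalSpace.Closeds Y)

theorem irreducibleSpace_clPt {Y : Scheme.{u}} (ξ : Y) : IrreducibleSpace (clPt ξ) := by
  obtain ⟨a, ha⟩ : ξ ∈ Set.range (clPtι ξ) := by rw [range_clPtι]; exact subset_closure rfl
  have hd : ∀ b, a ⤳ b := fun b => (clPtι ξ).isEmbedding.toIsInducing.specializes_iff.1 <| by
    rw [ha]
    exact specializes_iff_mem_closure.2 (by rw [← range_clPtι]; exact ⟨b, rfl⟩)
  have : closure {a} = Set.univ := Set.eq_univ_of_forall fun b => (hd b).mem_closure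
  refine (irreducibleSpace_def _).2 ?_
  rw [Set.top_eq_univ, ← this]
  exact isIrreducible_singleton.closure

/-- A quasi-finite affine chart over a component. -/
theorem exists_component_section {X U : Scheme.{u}} [IsLocallyNoetherian U] (f : X ⟶ U) [UniversallyOpen f]
    [LocallyOfFinitePresentation f] [Surjective f] {u ξ : U} (hξ : ξ ∈ GP u) :
    ∃ (T : Scheme.{u}) (h : T ⟶ X) (t η : T), IsAffine T ∧ LocallyOfFiniteType (h ≫ f) ∧
      ((h ≫ f) ⁻¹' {u}).Finite ∧ (h ≫ f) t = u ∧ η ⤳ t ∧ (h ≫ f) η = ξ := by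
  haveI := irreducibleSpace_clPt ξ
  haveI : IsLocallyNoetherian (clPt ξ) := LocallyOfFiniteType.isLocallyNoetherian (clPtι ξ)
  obtain ⟨u', hu'⟩ : u ∈ Set.range (clPtι ξ) := by
    rw [range_clPtι]
    exact hξ.2.mem_closure
  haveI : UniversallyOpen (pullback.snd f (clPtι ξ)) := inferInstance
  let p := pullback.snd f (clPtι ξ)
  obtain ⟨x, hx, hcl⟩ := exists_closed_in_fibre p u' (p.surjective u')
  obtain ⟨T, i, hi, hirr, hred, ⟨t₀, ht₀⟩, hft, hqf, hqc, hdom⟩ :=
    UnivOpen.exists_quasiSection_of_univOpen p (x := x) (fun z _ N hN => by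
      obtain ⟨V, hVN, hVo, hzV⟩ := mem_nhds_iff.1 hN
      exact Filter.mem_of_superset ((p.isOpenMap V hVo).mem_nhds ⟨z, hzV, rfl⟩) (Set.image_mono hVN)) hcl
  obtain ⟨A, hA, htA, -⟩ := exists_isAffineOpen_mem_and_subset (x := t₀) (U := (⊤ : T.Opens)) trivial
  haveI : IsAffine A.toScheme := hA
  have hgen : genericPoint T ⤳ t₀ := (genericPoint_spec T).specializes (Set.mem_univ _)
  have hcomm : (A.ι ≫ i ≫ pullback.fst f (clPtι ξ)) ≫ f = A.ι ≫ (i ≫ p) ≫ clPtι ξ := by
    simp [p, pullback.condition]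
  haveI := hft
  haveI := hqf
  haveI := hqc
  haveI := hdom
  haveI : IsLocallyNoetherian T := LocallyOfFiniteType.isLocallyNoetherian (i ≫ p)
  refine ⟨A, A.ι ≫ i ≫ pullback.fst f (clPtι ξ), ⟨t₀, htA⟩, ⟨genericPoint T, hgen.mem_open A.isOpen htA⟩, hA,
    ?_, ?_, ?_, ?_, ?_⟩
  · rw [hcomm]; infer_instance
  · rw [hcomm]
    exact Scheme.Hom.finite_preimage_singleton _ u
  · rw [hcomm]
    simp only [Scheme.Hom.comp_apply]
    show clPtι ξ (p (i t₀)) = u
    rw [ht₀, hx, hu']
  · exact A.ι.isEmbedding.toIsInducing.specializes_iff.1 hgen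
  · rw [hcomm]
    simp only [Scheme.Hom.comp_apply]
    show clPtι ξ ((p (i (genericPoint T)))) = ξ
    obtain ⟨a, ha⟩ : ξ ∈ Set.range (clPtι ξ) := by rw [range_clPtι]; exact subset_closure rfl
    have hs : (i ≫ p) (genericPoint T) ⤳ a := by
      rw [specializes_iff_mem_closure]
      refine closure_minimal (Set.range_subset_iff.2 fun t => ?_) isClosed_closure ((i ≫ p).denseRange a)
      exact (((genericPoint_spec T).specializes (Set.mem_univ t)).map (i ≫ p).continuous).mem_closure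
    refine GP_max hξ _ ?_
    have h' := hs.map (clPtι ξ).continuous
    rw [ha, Scheme.Hom.comp_apply] at h'
    exact h'

/-- A closed set containing the generic points of the components through a point is a neighbourhood of it. -/
theorem exists_open_of_GP_subset {U : Scheme.{u}} [IsLocallyNoetherian U] {u : U} {C : Set U} (hC : IsClosed C)
    (h : GP u ⊆ C) : ∃ O : U.Opens, u ∈ O ∧ (O : Set U) ⊆ C := by
  obtain ⟨A, hA, huA, -⟩ := exists_isAffineOpen_mem_and_subset (x := u) (U := (⊤ : U.Opens)) trivial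
  haveI : IsNoetherianRing Γ(U, A) := IsLocallyNoetherian.component_noetherian ⟨A, hA⟩
  haveI : NoetherianSpace A.toScheme := noetherianSpace_of_isAffineOpen A hA
  let S : Set (Set A.toScheme) := {Z | Z ∈ irreducibleComponents A.toScheme ∧ (⟨u, huA⟩ : A.toScheme) ∉ Z}
  have hS : S.Finite := NoetherianSpace.finite_irreducibleComponents.subset fun Z hZ => hZ.1
  have hcl : IsClosed (⋃ Z ∈ S, Z) := hS.isClosed_biUnion fun Z hZ => isClosed_of_mem_irreducibleComponents Z hZ.1
  refine ⟨⟨A.ι '' (⋃ Z ∈ S, Z)ᶜ, A.ι.isOpenEmbedding.isOpenMap _ hcl.isOpen_compl⟩,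
    ⟨⟨u, huA⟩, fun hm => by obtain ⟨Z, hZ, hu⟩ := Set.mem_iUnion₂.1 hm; exact hZ.2 hu, rfl⟩, ?_⟩
  rintro _ ⟨w, hw, rfl⟩
  have hZu : (⟨u, huA⟩ : A.toScheme) ∈ irreducibleComponent w := by
    by_contra hn
    exact hw (Set.mem_iUnion₂.2 ⟨_, ⟨irreducibleComponent_mem_irreducibleComponents w, hn⟩,
      mem_irreducibleComponent⟩)
  let a := genericPoints.ofComponent ⟨_, irreducibleComponent_mem_irreducibleComponents w⟩
  have ha := genericPoints.isGenericPoint_ofComponent ⟨_, irreducibleComponent_mem_irreducibleComponents w⟩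
  have hau : A.ι a.1 ⤳ u := (ha.specializes hZu).map A.ι.continuous
  have ha' : A.ι a.1 ∈ GP u := by
    refine ⟨(RadPtUnib.mem_genericPoints_iff _).2 fun b hb => ?_, hau⟩
    obtain ⟨b', rfl⟩ : b ∈ Set.range A.ι := by
      rw [Scheme.Opens.range_ι]
      exact hb.mem_open A.isOpen a.1.2
    exact congrArg A.ι ((RadPtUnib.mem_genericPoints_iff _).1 a.2 b'
      (A.ι.isOpenEmbedding.isInducing.specializes_iff.1 hb))
  exact ((ha.specializes mem_irreducibleComponent).map A.ι.continuous).mem_closed hC (h ha')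

/-- A universally open surjection locally of finite presentation over a locally Noetherian scheme is refined
etale locally by a finite surjection. -/
theorem refAt_of_universallyOpen {X Y : Scheme.{u}} [IsLocallyNoetherian Y] (f : X ⟶ Y) [UniversallyOpen f]
    [LocallyOfFinitePresentation f] [Surjective f] (S : Sieve Y) (hS : S f) (y : Y) : RefAt S y := by
  obtain ⟨U₀, g, u₀, hg, hfin₀, hmax⟩ := exists_max_nbhd Y y
  haveI := hg.etale
  haveI : IsLocallyNoetherian U₀ := LocallyOfFiniteType.isLocallyNoetherian g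
  let f₀ := pullback.snd f g
  haveI : UniversallyOpen f₀ := inferInstanceAs (UniversallyOpen (pullback.snd f g))
  haveI : LocallyOfFinitePresentation f₀ := inferInstanceAs (LocallyOfFinitePresentation (pullback.snd f g))
  haveI : Surjective f₀ := inferInstanceAs (Surjective (pullback.snd f g))
  haveI : Finite (GP u₀) := hfin₀.to_subtype
  choose T h t η hT hft hfib ht hη hgen using fun ξ : GP u₀ => exists_component_section f₀ ξ.2
  haveI := hT
  let H : (∐ T) ⟶ pullback f g := Sigma.desc h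
  let q : (∐ T) ⟶ U₀ := H ≫ f₀
  have hqι : ∀ ξ, Sigma.ι T ξ ≫ q = h ξ ≫ f₀ := fun ξ => by simp [q, H]
  haveI : LocallyOfFiniteType q := by
    haveI : IsZariskiLocalAtSource @LocallyOfFiniteType.{u} := HasRingHomProperty.instIsZariskiLocalAtSource
    rw [show q = Sigma.desc (fun ξ => h ξ ≫ f₀) from Sigma.hom_ext _ _ fun ξ => by simp [q, H]]
    exact IsZariskiLocalAtSource.sigmaDesc hft
  haveI : IsSeparated q := by
    haveI : IsSeparated (q ≫ terminal.from U₀) := by
      rw [show q ≫ terminal.from U₀ = terminal.from _ from terminalIsTerminal.hom_ext _ _]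
      infer_instance
    exact IsSeparated.of_comp q (terminal.from U₀)
  have hqfin : (q ⁻¹' {u₀}).Finite := by
    refine (Set.finite_iUnion fun ξ => ((hfib ξ).image (Sigma.ι T ξ))).subset fun x hx => ?_
    obtain ⟨ξ, z, rfl⟩ := (sigmaOpenCover T).exists_eq x
    refine Set.mem_iUnion.2 ⟨ξ, z, ?_, rfl⟩
    show (h ξ ≫ f₀) z = u₀
    exact (congrArg (fun (φ : T ξ ⟶ U₀) => φ z) (hqι ξ)).symm.trans ((Scheme.Hom.comp_apply _ _ _).trans hx)
  obtain ⟨U, k, u, hk, hku, hkres, V, -, -, hVfin, hV⟩ := Groth.Agent.S5985.result q u₀ hqfin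
  haveI := hk
  haveI : IsLocallyNoetherian U := LocallyOfFiniteType.isLocallyNoetherian k
  let p₀ := V.ι ≫ pullback.snd q k
  haveI : IsFinite p₀ := hVfin
  obtain ⟨-, hinj⟩ := hmax U k u hk hku (ConcreteCategory.bijective_of_isIso (k.residueFieldMap u))
  have hC : GP u ⊆ Set.range p₀ := fun a ha => by
    let ξ : GP u₀ := ⟨k a, hku ▸ GP_map k ha⟩
    obtain ⟨z, hz₁, hz₂⟩ := Scheme.Pullback.exists_preimage_pullback (f := q) (g := k) (Sigma.ι T ξ (t ξ)) u (by
      rw [← Scheme.Hom.comp_apply, hqι, ht ξ, hku])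
    have hzV : z ∈ V := hV z hz₂
    obtain ⟨z', hz', hz'η⟩ := Flat.generalizingMap (pullback.fst q k) (a := z)
      (show Sigma.ι T ξ (η ξ) ⤳ pullback.fst q k z from hz₁ ▸ (hη ξ).map (Sigma.ι T ξ).continuous)
    have hz'V : z' ∈ V := hz'.mem_open V.isOpen hzV
    let b := pullback.snd q k z'
    have hbu : b ⤳ u := hz₂ ▸ hz'.map (pullback.snd q k).continuous
    have hkb : k b = ξ.1 := by
      rw [← Scheme.Hom.comp_apply, ← pullback.condition, Scheme.Hom.comp_apply, hz'η, ← Scheme.Hom.comp_apply, hqι]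
      exact hgen ξ
    have hbG : b ∈ GP u := GP_of_map k hbu (by rw [hkb, hku]; exact ξ.2)
    obtain rfl : b = a := hinj hbG ha hkb
    exact ⟨⟨z', hz'V⟩, Scheme.Hom.comp_apply _ _ _⟩
  obtain ⟨O, huO, hOC⟩ := exists_open_of_GP_subset (p₀.isClosedMap.isClosed_range) hC
  refine ⟨O, O.ι ≫ k ≫ g, 1, fun _ => (p₀ ⁻¹ᵁ O).toScheme, fun _ => p₀ ∣_ O, inferInstance,
    ⟨⟨u, huO⟩, by simp only [Scheme.Hom.comp_apply]; exact (congrArg g hku).trans hg.base_eq⟩,
    fun _ => MorphismProperty.of_isPullback (P := @IsFinite) (isPullback_morphismRestrict p₀ O).flip ‹IsFinite p₀›,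
    fun x => ⟨0, ?_⟩, fun _ => ?_⟩
  · obtain ⟨z, hz⟩ := hOC x.2
    refine ⟨⟨z, show p₀ z ∈ O from hz ▸ x.2⟩, O.ι.isOpenEmbedding.injective ?_⟩
    refine (Scheme.Hom.comp_apply _ _ _).symm.trans ?_
    exact (congrArg (fun (φ : (p₀ ⁻¹ᵁ O).toScheme ⟶ U) => φ _) (morphismRestrict_ι p₀ O)).trans
      ((Scheme.Hom.comp_apply _ _ _).trans hz)
  · have he : (p₀ ∣_ O) ≫ O.ι ≫ k ≫ g =
        ((p₀ ⁻¹ᵁ O).ι ≫ V.ι ≫ pullback.fst q k ≫ H ≫ pullback.fst f g) ≫ f := by
      rw [morphismRestrict_ι_assoc]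
      simp [p₀, q, f₀, ← pullback.condition_assoc (f := q) (g := k), pullback.condition]
    rw [he]
    exact S.downward_closed hS _

theorem generate_mem_hK {X Y : Scheme.{u}} [IsLocallyNoetherian Y] (f : X ⟶ Y) [UniversallyOpen f]
    [LocallyOfFinitePresentation f] [Surjective f] :
    Sieve.generate (Presieve.singleton f) ∈ hK.toGrothendieck Y :=
  mem_hK_iff.2 fun y => refAt_of_universallyOpen f _ (Sieve.le_generate (Presieve.singleton f) _ _ (Presieve.singleton_self f)) y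

end Groth.Agent.EtHDesc
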