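import Groth.Agent.EtHDesc.HTop
import Groth.Agent.BigSiteLib.PiInduced

/-!
# Pullbacks from the small etale site are sheaves for finite surjections
-/

set_option autoImplicit false

universe w u

open CategoryTheory CategoryTheory.Limits AlgebraicGeometry Opposite TopologicalSpace

namespace Groth.Agent.EtHDesc

open BigSiteLib

variable {S : Scheme.{u}}

theorem isSheaf_hK_of_etInduced {P : (Over S)ᵒᵖ ⥤ Type (u + 1)} (hP : EtInd.EtInduced P) :
    Presieve.IsSheaf (QuotSh.J hK S) P := by
  intro Y R hR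
  have hR' := mem_hK_iff.1 ((GrothendieckTopology.mem_over_iff _ _).1 hR)
  choose U g n U' p hg hu hp hps hmem using hR'
  let I : Type u := Σ t : Y.left, ULift.{u} (Fin (n t))
  refine EtInd.isSheafFor_fam hP (I := I) (T := fun e => Over.mk ((p e.1 e.2.down ≫ g e.1) ≫ Y.hom))
    (fun e => Over.homMk (p e.1 e.2.down ≫ g e.1)) (fun y => ?_) (fun V k hk E hE => ?_) R
    fun e => (Sieve.overEquiv_iff R _).1 (hmem e.1 e.2.down)
  · obtain ⟨u₀, hu₀⟩ := hu y
    obtain ⟨i, z, hz⟩ := hps y u₀
    exact ⟨⟨y, ⟨i⟩⟩, z, (Scheme.Hom.comp_apply _ _ _).trans ((congrArg (g y) hz).trans hu₀)⟩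
  · refine isOpen_iff_forall_mem_open.2 fun v hv => ?_
    let t := k.left v
    haveI := hg t
    haveI := hp t
    let a := pullback.fst k.left (g t)
    let q : ∀ i, pullback (pullback.snd k.left (g t)) (p t i) ⟶ pullback k.left (g t) :=
      fun i => pullback.fst _ _
    have hopen : ∀ i, IsOpen ((q i) ⁻¹' (a ⁻¹' E)) := fun i => by
      let c : pullback (pullback.snd k.left (g t)) (p t i) ⟶ pullback k.left (p t i ≫ g t) :=
        pullback.lift (q i ≫ a) (pullback.snd _ _) (by
          show (q i ≫ pullback.fst k.left (g t)) ≫ k.left = _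
          rw [Category.assoc, pullback.condition, ← Category.assoc, pullback.condition, Category.assoc])
      have he : (q i) ⁻¹' (a ⁻¹' E) = c ⁻¹' ((pullback.fst k.left (p t i ≫ g t)) ⁻¹' E) := by
        ext w
        simp only [Set.mem_preimage, ← Scheme.Hom.comp_apply, c, pullback.lift_fst]
      rw [he]
      exact (hE ⟨t, ⟨i⟩⟩).preimage c.continuous
    have hsurj : ∀ x, ∃ i, x ∈ Set.range (q i) := fun x => by
      obtain ⟨i, z, hz⟩ := hps t (pullback.snd k.left (g t) x)
      obtain ⟨w, hw, -⟩ := Scheme.Pullback.exists_preimage_pullback (f := pullback.snd k.left (g t)) (g := p t i) x z hz.symm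
      exact ⟨i, w, hw⟩
    have heq : (a ⁻¹' E)ᶜ = ⋃ i, q i '' ((q i) ⁻¹' (a ⁻¹' E))ᶜ := by
      ext x
      simp only [Set.mem_iUnion, Set.mem_image, Set.mem_compl_iff, Set.mem_preimage]
      constructor
      · intro hx
        obtain ⟨i, w, rfl⟩ := hsurj x
        exact ⟨i, w, hx, rfl⟩
      · rintro ⟨i, w, hw, rfl⟩
        exact hw
    have hE' : IsOpen (a ⁻¹' E) := by
      rw [← isClosed_compl_iff, heq]
      exact isClosed_iUnion_of_finite fun i => (q i).isClosedMap _ (hopen i).isClosed_compl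
    obtain ⟨u₀, hu₀⟩ := hu t
    obtain ⟨x, hx, -⟩ := Scheme.Pullback.exists_preimage_pullback (f := k.left) (g := g t) v u₀ hu₀.symm
    exact ⟨a '' (a ⁻¹' E), Set.image_preimage_subset _ _, a.isOpenMap _ hE', x, show a x ∈ E from hx ▸ hv, hx⟩

set_option backward.isDefEq.respectTransparency.types false

theorem isSheaf_hK_piPull (F : EtCoh.Ab S) :
    Presheaf.IsSheaf (QuotSh.J hK S) ((BigSite.piEtPull Scheme.etalePrecoverage S).obj F).obj :=
  (Presheaf.isSheaf_iff_isSheaf_forget _ _ (forget AddCommGrpCat.{u + 1})).2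
    ((isSheaf_iff_isSheaf_of_type _ _).2 (isSheaf_hK_of_etInduced (etInduced_piP F)))

/-- Abelian sheaves on the big site for finite surjections and etale coverings. -/
abbrev AbH (X : Scheme.{u}) := BigSite.Ab hK X

/-- The pullback to the big etale site, as a sheaf for finite surjections. -/
noncomputable abbrev piH (F : EtCoh.Ab S) : AbH S :=
  ⟨((BigSite.piEtPull Scheme.etalePrecoverage S).obj F).obj, isSheaf_hK_piPull F⟩

instance epsCont_hK (X : Scheme.{u}) : BigSite.EpsCont Scheme.etalePrecoverage hK X :=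
  BigSite.epsCont_of_le etalePrecoverage_le_hK X

end Groth.Agent.EtHDesc
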