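import Groth.Agent.EtDescSplit.SplitCech
import Groth.Agent.EtFlatDesc.CechF
import Groth.Agent.EtHDesc.Refine
import Groth.Agent.EtHDesc.Sheaf
import Groth.Prelude.Def_BigSite
import Mathlib.CategoryTheory.Preadditive.Injective.Basic
import Mathlib.CategoryTheory.Sites.Abelian

/-!
# The Cech functor of an finite-surjection covering on the big finite-surjection site
-/

set_option autoImplicit false

universe u

open CategoryTheory CategoryTheory.Limits AlgebraicGeometry Opposite

namespace Groth.Agent.EtHDesc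

open EtFlatDesc (injective_primitive)

open EtDescSplit (pow powMap powMap_π powSimp powCx dd dd_apply d_eq pow_hom_ext aug map_op_comp)

variable {X Y : Scheme.{u}} (f : X ⟶ Y)

/-- The Cech complex as a functor on finite-surjection sheaves. -/
noncomputable def cechF : AbH Y ⥤ CochainComplex AddCommGrpCat.{u + 1} ℕ :=
  sheafToPresheaf (QuotSh.J hK Y) AddCommGrpCat.{u + 1} ⋙
    (Functor.whiskeringLeft SimplexCategory (Over Y)ᵒᵖ AddCommGrpCat.{u + 1}).obj (powSimp f).rightOp ⋙
    AlgebraicTopology.alternatingCofaceMapComplex AddCommGrpCat.{u + 1}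

theorem cechF_obj (G : AbH Y) : (cechF f).obj G = powCx f G.obj := rfl

instance : (cechF f).Additive where
  map_add {F G φ ψ} := HomologicalComplex.hom_ext _ _ fun n => rfl

theorem exactAt_cechF (Q : AbH Y) [Injective Q] (n : ℕ) : ((cechF f).obj Q).ExactAt (n + 1) := by
  haveI : PreservesFiniteLimits (presheafToSheaf (QuotSh.J hK Y) AddCommGrpCat.{u + 1}) := inferInstance
  haveI : (presheafToSheaf (QuotSh.J hK Y) AddCommGrpCat.{u + 1}).PreservesMonomorphisms := inferInstance
  haveI : Injective Q.obj :=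
    Injective.injective_of_adjoint (sheafificationAdjunction (QuotSh.J hK Y) AddCommGrpCat.{u + 1}) Q
  rw [cechF_obj, HomologicalComplex.exactAt_iff' _ n (n + 1) (n + 1 + 1) (by simp) (by simp),
    ShortComplex.ab_exact_iff]
  intro x hx
  obtain ⟨y, hy⟩ := injective_primitive f Q.obj n x ((d_eq f Q.obj (n + 1) x).symm.trans hx)
  exact ⟨y, (d_eq f Q.obj n y).trans hy⟩

/-- Global sections. -/
noncomputable abbrev secTop : AbH Y ⥤ AddCommGrpCat.{u + 1} :=
  sheafToPresheaf (QuotSh.J hK Y) AddCommGrpCat.{u + 1} ⋙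
    (evaluation (Over Y)ᵒᵖ AddCommGrpCat.{u + 1}).obj (op (Over.mk (𝟙 Y)))

variable [IsLocallyNoetherian Y] [UniversallyOpen f] [LocallyOfFinitePresentation f] [Surjective f]

theorem aug_mem : Sieve.ofArrows (fun _ : PUnit.{1} => pow f 0) (fun _ => aug f 0) ∈
    QuotSh.J hK Y (Over.mk (𝟙 Y)) := by
  rw [GrothendieckTopology.mem_over_iff]
  refine GrothendieckTopology.superset_covering _ ?_ (generate_mem_hK f)
  rw [Sieve.generate_le_iff]
  suffices h : Sieve.overEquiv (Over.mk (𝟙 Y)) (Sieve.ofArrows (fun _ : PUnit.{1} => pow f 0) (fun _ => aug f 0))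
      (show X ⟶ (Over.mk (𝟙 Y)).left from f) by
    intro Z g hg
    induction hg
    exact h
  refine (Sieve.overEquiv_iff (Y := Over.mk (𝟙 Y)) _ (show X ⟶ (Over.mk (𝟙 Y)).left from f)).2 ?_
  refine (Sieve.mem_ofArrows_iff _ _ _).2 ⟨⟨⟩, Over.homMk (WidePullback.lift f (fun _ => 𝟙 X) (fun _ => Category.id_comp f))
    ((WidePullback.lift_base _ _ _ _).trans (Category.comp_id f).symm), ?_⟩
  exact Over.OverMorphism.ext (WidePullback.lift_base (fun _ : Fin 1 => f) f (fun _ => 𝟙 X) (fun _ => Category.id_comp f)).symm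

omit [IsLocallyNoetherian Y] [UniversallyOpen f] [LocallyOfFinitePresentation f] [Surjective f] in
theorem map_eq_of_dd {P : (Over Y)ᵒᵖ ⥤ AddCommGrpCat.{u + 1}} {x : P.obj (op (pow f 0))}
    (hx : dd f P 0 x = 0) {Z : Over Y} (a b : Z ⟶ pow f 0) : P.map a.op x = P.map b.op x := by
  let c : Z ⟶ pow f 1 := Over.homMk (WidePullback.lift Z.hom
    ![a.left ≫ WidePullback.π (fun _ : Fin 1 => f) 0, b.left ≫ WidePullback.π (fun _ : Fin 1 => f) 0] (by
      intro j
      fin_cases j
      · exact (Category.assoc _ _ _).trans ((congrArg (a.left ≫ ·) (WidePullback.π_arrow _ _)).trans (Over.w a))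
      · exact (Category.assoc _ _ _).trans ((congrArg (b.left ≫ ·) (WidePullback.π_arrow _ _)).trans (Over.w b))))
    (WidePullback.lift_base _ _ _ _)
  have h0 : c ≫ powMap f (0 : Fin 2).succAbove = b := pow_hom_ext f fun i => by
    obtain rfl : i = 0 := @Subsingleton.elim (Fin 1) _ _ _
    rw [Over.comp_left, Category.assoc, powMap_π]
    exact WidePullback.lift_π _ _ _ _ _
  have h1 : c ≫ powMap f (1 : Fin 2).succAbove = a := pow_hom_ext f fun i => by
    obtain rfl : i = 0 := @Subsingleton.elim (Fin 1) _ _ _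
    rw [Over.comp_left, Category.assoc, powMap_π]
    exact WidePullback.lift_π _ _ _ _ _
  have h := congrArg (P.map c.op) hx
  rw [dd_apply, Fin.sum_univ_two, map_add, map_zsmul, map_zsmul, map_op_comp, map_op_comp, h0, h1, map_zero] at h
  simp only [Fin.val_zero, pow_zero, one_smul, Fin.val_one, pow_one, neg_smul] at h
  exact (sub_eq_zero.1 (by rw [sub_eq_add_neg]; exact h)).symm

/-- The augmentation of the Cech complex. -/
noncomputable def augC (G : AbH Y) : (secTop (Y := Y)).obj G ⟶ (powCx f G.obj).homology 0 :=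
  EtDescSplit.augToHomology f G.obj

theorem isIso_augC (G : AbH Y) : IsIso (augC f G) := by
  have hsh : Presieve.IsSheafFor (G.obj ⋙ forget _)
      (Presieve.ofArrows (fun _ : PUnit.{1} => pow f 0) (fun _ => aug f 0)) :=
    (Presieve.isSheafFor_iff_generate _).2 (((isSheaf_iff_isSheaf_of_type _ _).1
      (Presheaf.isSheaf_comp_of_isSheaf _ _ _ G.property) _ (aug_mem f)))
  rw [Presieve.isSheafFor_arrows_iff] at hsh
  let Z := powCx f G.obj
  have hinj : Function.Injective (Z.iCycles 0) := (AddCommGrpCat.mono_iff_injective _).1 inferInstance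
  have hπi : IsIso (Z.homologyπ 0) := Z.isIso_homologyπ 0 0 (by simp) (Z.shape 0 0 (by simp))
  have hπ : Function.Bijective (Z.homologyπ 0) := (ConcreteCategory.isIso_iff_bijective _).1 inferInstance
  let l := Z.liftCycles (G.obj.map (aug f 0).op) 1 (by simp) (by
    ext t; exact (d_eq f G.obj 0 _).trans (EtDescSplit.aug_d f G.obj t))
  have hl : ∀ t, Z.iCycles 0 (l t) = G.obj.map (aug f 0).op t :=
    fun t => ConcreteCategory.congr_hom (Z.liftCycles_i _ 1 (by simp) _) t
  have he : augC f G = l ≫ Z.homologyπ 0 := rfl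
  rw [he, ConcreteCategory.isIso_iff_bijective]
  refine hπ.comp ⟨fun a b h => ?_, fun z => ?_⟩
  · have h' : G.obj.map (aug f 0).op a = G.obj.map (aug f 0).op b :=
      (hl a).symm.trans ((congrArg (Z.iCycles 0) h).trans (hl b))
    exact (hsh (fun _ => G.obj.map (aug f 0).op a) (fun i j Z' gi gj he => by
      show G.obj.map gi.op (G.obj.map (aug f 0).op a) = G.obj.map gj.op (G.obj.map (aug f 0).op a)
      rw [map_op_comp, map_op_comp, he])).unique (fun _ => rfl) (fun _ => h'.symm)
  · let σ : G.obj.obj (op (pow f 0)) := Z.iCycles 0 z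
    have hσ : dd f G.obj 0 σ = 0 :=
      (d_eq f G.obj 0 σ).symm.trans (ConcreteCategory.congr_hom (Z.iCycles_d 0 1) z)
    obtain ⟨t, ht, -⟩ := hsh (fun _ => σ) (fun i j Z' gi gj _ => map_eq_of_dd f hσ gi gj)
    exact ⟨t, hinj ((hl t).trans (ht ⟨⟩))⟩

theorem augC_natural {G G' : AbH Y} (g : G ⟶ G') :
    (secTop (Y := Y)).map g ≫ augC f G' = augC f G ≫ HomologicalComplex.homologyMap ((cechF f).map g) 0 := by
  refine Eq.trans (Category.assoc _ _ _).symm (Eq.trans (congrArg (· ≫ _) ?_)
    ((Category.assoc _ _ _).trans ((congrArg (_ ≫ ·)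
      (HomologicalComplex.homologyπ_naturality ((cechF f).map g) 0).symm).trans (Category.assoc _ _ _).symm)))
  refine (cancel_mono ((powCx f G'.obj).iCycles 0)).1 ?_
  refine (Category.assoc _ _ _).trans ((congrArg (_ ≫ ·) (HomologicalComplex.liftCycles_i _ _ 1 _ _)).trans ?_)
  refine Eq.trans ?_ ((Category.assoc _ _ _).trans ((congrArg (_ ≫ ·)
    (HomologicalComplex.cyclesMap_i ((cechF f).map g) 0)).trans
      (HomologicalComplex.liftCycles_i_assoc _ _ 1 _ _ _))).symm
  exact (g.hom.naturality (aug f 0).op).symm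

end Groth.Agent.EtHDesc
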