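import Groth.Agent.EtHDesc.Main
import Groth.Agent.BigSiteLib.FppfDesc.Descent

/-!
# Etale cohomology as cohomology for finite surjections
-/

set_option autoImplicit false

universe u

open CategoryTheory CategoryTheory.Limits AlgebraicGeometry Opposite CategoryTheory.Abelian

namespace Groth.Agent.EtHDesc

open BigSiteLib

set_option backward.isDefEq.respectTransparency.types false

variable (X : Scheme.{u})

/-- Restriction to the small etale site factors through the big etale site. -/
noncomputable def resIso : BigSite.resEt hK X ≅ epsX X ⋙ BigSite.resEt Scheme.etalePrecoverage X :=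
  NatIso.ofComponents (fun _ => Iso.refl _) (fun _ => (Category.comp_id _).trans (Category.id_comp _).symm)

theorem isZero_RresEt_piH (F : EtCoh.Ab X) (q : ℕ) :
    IsZero (((BigSite.resEt hK X).rightDerived (q + 1)).obj (piH F)) := by
  have h : IsZero (((epsX X).rightDerived (q + 1)).obj (piH F)) := isZero_rightDerived_piH (acy q X F)
  haveI : (BigSite.resEt Scheme.etalePrecoverage X).Additive := ⟨fun {_ _ _ _} => rfl⟩
  exact (Functor.map_isZero (BigSite.resEt Scheme.etalePrecoverage X) h).of_iso
    ((rightDerivedIso (resIso X) (q + 1)).app _ ≪≫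
      (SiteBase.rightDerivedCompIso (epsX X) (BigSite.resEt Scheme.etalePrecoverage X) (q + 1)).app _)

theorem injective_resEt (I : AbH X) [Injective I] : Injective ((BigSite.resEt hK X).obj I) := by
  haveI := representablyFlat_a X
  haveI : PreservesFiniteLimits (BigSite.piEtPull hK X) :=
    sheafPullback_preservesFiniteLimits (EtFppf.a X) X.smallEtaleTopology (QuotSh.J hK X)
  exact Injective.injective_of_adjoint (BigSite.piEtAdj hK X) I

/-- The restriction of a pulled back sheaf is the sheaf. -/
noncomputable def resPiHIso (F : EtCoh.Ab X) : F ≅ (BigSite.resEt hK X).obj (piH F) :=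
  haveI := isIso_unit X F
  asIso ((BigSite.piEtAdj Scheme.etalePrecoverage X).unit.app F) ≪≫
    (fullyFaithfulSheafToPresheaf _ _).preimageIso
      (Iso.refl ((BigSite.resEt Scheme.etalePrecoverage X).obj ((BigSite.piEtPull Scheme.etalePrecoverage X).obj F)).obj)

/-- Global sections of the restriction. -/
noncomputable def sectEquiv (G : AbH X) : EtCoh.H X ((BigSite.resEt hK X).obj G) 0 ≃+ BigSite.H hK X G 0 :=
  (Sheaf.H.equiv₀ ((BigSite.resEt hK X).obj G) (EtCore.topIsTerminal X)).trans
    ((G.obj.mapIso (Over.isoMk (Iso.refl _) rfl : (EtFppf.a X).obj (EtCoh.top X) ≅ Over.mk (𝟙 X)).symm.op).addCommGroupIsoToAddEquiv.trans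
      (Sheaf.H.equiv₀ G Over.mkIdTerminal).symm)

theorem sectEquiv_natural {G G' : AbH X} (φ : G ⟶ G') (y : BigSite.H hK X G 0) :
    (sectEquiv X G').symm (y.comp (Ext.mk₀ φ) (add_zero 0)) =
      ((sectEquiv X G).symm y).comp (Ext.mk₀ ((BigSite.resEt hK X).map φ)) (add_zero 0) := by
  refine (sectEquiv X G').injective ?_
  rw [AddEquiv.apply_symm_apply]
  have h : ∀ z : EtCoh.H X ((BigSite.resEt hK X).obj G) 0,
      sectEquiv X G' (z.comp (Ext.mk₀ ((BigSite.resEt hK X).map φ)) (add_zero 0)) =
        (sectEquiv X G z).comp (Ext.mk₀ φ) (add_zero 0) := fun z => by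
    refine (congrArg (fun t => (Sheaf.H.equiv₀ G' Over.mkIdTerminal).symm
      ((G'.obj.mapIso (Over.isoMk (Iso.refl _) rfl : (EtFppf.a X).obj (EtCoh.top X) ≅ Over.mk (𝟙 X)).symm.op).addCommGroupIsoToAddEquiv t))
      (Sheaf.H.equiv₀_naturality (EtCore.topIsTerminal X) ((BigSite.resEt hK X).map φ) z).symm).trans ?_
    refine Eq.trans ?_ (Sheaf.H.equiv₀_symm_naturality Over.mkIdTerminal φ _).symm
    exact congrArg _ (ConcreteCategory.congr_hom (φ.hom.naturality
      (Over.isoMk (Iso.refl _) rfl : (EtFppf.a X).obj (EtCoh.top X) ≅ Over.mk (𝟙 X)).symm.op.hom) _).symm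
  rw [h, AddEquiv.apply_symm_apply]

/-- Etale cohomology is cohomology for etale coverings and finite surjections. -/
theorem H_iso (F : EtCoh.Ab X) (q : ℕ) : Nonempty (EtCoh.H X F q ≃+ BigSite.H hK X (piH F) q) := by
  haveI : (BigSite.resEt hK X).IsRightAdjoint := (BigSite.piEtAdj hK X).isRightAdjoint
  haveI : PreservesFiniteLimits (BigSite.resEt hK X) := inferInstance
  obtain ⟨e⟩ := LerayDegen.ext_equiv_of_rightDerived _ _ (BigSite.resEt hK X) (fun I hI => @injective_resEt X I hI)
    (fun G => (sectEquiv X G).symm) (fun φ y => sectEquiv_natural X φ y) (SESResLib.derivedLES (BigSite.resEt hK X))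
    (piH F) (isZero_RresEt_piH X F) q
  exact ⟨((EtCoh.HF X q).mapIso (resPiHIso X F)).addCommGroupIsoToAddEquiv.trans e.symm⟩

end Groth.Agent.EtHDesc
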