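import Groth.Agent.EtHDesc.Sheaf
import Groth.Agent.BigSiteLib.FppfDesc.Eps
import Groth.Agent.BigSiteLib.FinitePushIso
import Groth.Agent.TriCat.RightDerivedBridge
import Groth.Agent.BigSiteLib.FppfDesc.LocExact
import Mathlib.AlgebraicGeometry.Morphisms.UniversallyClosed

/-!
# Sheaves for finite surjections regarded as big etale sheaves
-/

set_option autoImplicit false

universe u

open CategoryTheory CategoryTheory.Limits AlgebraicGeometry Opposite

namespace Groth.Agent.EtHDesc

open BigSiteLib
open BigSiteLib.FppfDesc (InPi inPi_pi locally_boundary exact_of_locally_boundary)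

set_option backward.isDefEq.respectTransparency.types false


/-- A sheaf as an etale sheaf. -/
noncomputable abbrev epsX (X : Scheme.{u}) : AbH X ⥤ BigSite.Ab Scheme.etalePrecoverage X :=
  BigSite.eps Scheme.etalePrecoverage hK X AddCommGrpCat.{u + 1}

variable {X Y : Scheme.{u}}

instance eps_faithful : (epsX X).Faithful :=
  ⟨fun {F G a b} h => ObjectProperty.hom_ext _ (NatTrans.ext (funext fun V => congr(($h).hom.app V)))⟩

instance eps_full : (epsX X).Full :=
  ⟨fun {F G} a => ⟨ObjectProperty.homMk { app := fun V => a.hom.app V, naturality := fun _ _ k => a.hom.naturality k },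
    ObjectProperty.hom_ext _ (NatTrans.ext (funext fun _ => rfl))⟩⟩

instance eps_preservesFiniteLimits : PreservesFiniteLimits (epsX X) := by
  haveI : (epsX X).IsRightAdjoint :=
    (BigSite.epsAdj Scheme.etalePrecoverage hK X).isRightAdjoint
  infer_instance

theorem exact_of_eps {S : ShortComplex (AbH X)} (h : (S.map (epsX X)).Exact) : S.Exact :=
  exact_of_locally_boundary fun U x hx =>
    BigSite.J_mono etalePrecoverage_le_hK X U (locally_boundary h x hx)

/-- An etale sheaf pulled back from the small site is a sheaf. -/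
noncomputable def ofInPi {A : BigSite.Ab Scheme.etalePrecoverage X} (h : InPi A) : AbH X :=
  ⟨A.obj, haveI : IsIso ((BigSite.piEtAdj Scheme.etalePrecoverage X).counit.app A) := h
    (Presheaf.isSheaf_of_iso_iff ((sheafToPresheaf _ _).mapIso (asIso ((BigSite.piEtAdj Scheme.etalePrecoverage X).counit.app A)))).1
      (isSheaf_hK_piPull ((BigSite.resEt Scheme.etalePrecoverage X).obj A))⟩

/-- A sheaf whose etale sheaf is pulled back from the small site. -/
noncomputable def isoPiH {G : AbH X} (F : EtCoh.Ab X)
    (e : (BigSite.piEtPull Scheme.etalePrecoverage X).obj F ≅ (epsX X).obj G) : piH F ≅ G :=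
  (fullyFaithfulSheafToPresheaf _ _).preimageIso
    (show (piH F).obj ≅ G.obj from (sheafToPresheaf (QuotSh.J Scheme.etalePrecoverage X) _).mapIso e)

variable (p : Y ⟶ X) (F : EtCoh.Ab X)

/-- Restriction of a pulled back sheaf. -/
noncomputable def piHPullIso : piH ((EtCoh.pull p).obj F) ≅
    (BigSite.pullBig hK p AddCommGrpCat.{u + 1}).obj (piH F) :=
  (fullyFaithfulSheafToPresheaf _ _).preimageIso
    (show (piH ((EtCoh.pull p).obj F)).obj ≅ _ from (sheafToPresheaf (QuotSh.J Scheme.etalePrecoverage Y) _).mapIso ((piPullIso p).app F))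

end Groth.Agent.EtHDesc
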