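import Groth.Agent.EtFound.IntegralSplit
import Groth.Prelude.Def_BigSite
import Groth.Agent.SGA1Q.SigmaFinite
import Mathlib.AlgebraicGeometry.Morphisms.Finite
import Mathlib.AlgebraicGeometry.Morphisms.Etale
import Mathlib.AlgebraicGeometry.Morphisms.UnderlyingMap
import Mathlib.CategoryTheory.Sites.PrecoverageToGrothendieck

/-!
# The topology generated by etale coverings and finite surjective morphisms
-/

set_option autoImplicit false

universe u

open CategoryTheory CategoryTheory.Limits AlgebraicGeometry TopologicalSpace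

namespace Groth.Agent.EtHDesc

/-- A sieve is refined by an etale neighbourhood followed by a finite jointly surjective family of finite morphisms. -/
def RefAt {T : Scheme.{u}} (S : Sieve T) (t : T) : Prop :=
  ∃ (U : Scheme.{u}) (g : U ⟶ T) (n : ℕ) (U' : Fin n → Scheme.{u}) (p : ∀ i, U' i ⟶ U),
    Etale g ∧ t ∈ Set.range g ∧ (∀ i, IsFinite (p i)) ∧ (∀ x : U, ∃ i, x ∈ Set.range (p i)) ∧ ∀ i, S (p i ≫ g)

theorem refAt_pullback {T T' : Scheme.{u}} {S : Sieve T} (a : T' ⟶ T) {t' : T'} (h : RefAt S (a t')) :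
    RefAt (S.pullback a) t' := by
  obtain ⟨U, g, n, U', p, hg, ⟨u, hu⟩, hp, hps, hS⟩ := h
  haveI := hg
  haveI := hp
  obtain ⟨z, hz, -⟩ := Scheme.Pullback.exists_preimage_pullback (f := a) (g := g) t' u hu.symm
  refine ⟨pullback a g, pullback.fst a g, n, fun i => pullback (pullback.snd a g) (p i),
    fun i => pullback.fst (pullback.snd a g) (p i), inferInstance, ⟨z, hz⟩, fun i => inferInstance, fun x => ?_,
    fun i => ?_⟩
  · obtain ⟨i, y, hy⟩ := hps (pullback.snd a g x)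
    obtain ⟨w, hw, -⟩ := Scheme.Pullback.exists_preimage_pullback (f := pullback.snd a g) (g := p i) x y hy.symm
    exact ⟨i, w, hw⟩
  · show S ((pullback.fst (pullback.snd a g) (p i) ≫ pullback.fst a g) ≫ a)
    rw [Category.assoc, pullback.condition (f := a) (g := g), ← Category.assoc,
      pullback.condition (f := pullback.snd a g) (g := p i), Category.assoc]
    exact S.downward_closed (hS i) _

theorem isClosed_range_sigmaι {ι : Type u} (V : ι → Scheme.{u}) (i : ι) :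
    IsClosed (Set.range (Sigma.ι V i)) := by
  refine ⟨isOpen_iff_forall_mem_open.2 fun x hx => ?_⟩
  obtain ⟨j, y, rfl⟩ := (sigmaOpenCover V).exists_eq x
  have hne : j ≠ i := by
    rintro rfl
    exact hx ⟨y, rfl⟩
  exact ⟨_, fun w hw hw' => Set.disjoint_left.1 (TopologicalSpace.Opens.coe_disjoint.2
    (disjoint_opensRange_sigmaι V j i hne)) hw hw', (Sigma.ι V j).opensRange.2, ⟨y, rfl⟩⟩

theorem isFinite_comp_sigmaι {ι : Type u} (V : ι → Scheme.{u}) (i : ι) {Z : Scheme.{u}} (q : Z ⟶ V i) [IsFinite q] :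
    IsFinite (q ≫ Sigma.ι V i) := by
  haveI : IsClosedImmersion (Sigma.ι V i) :=
    IsClosedImmersion.iff_isPreimmersion.2 ⟨inferInstance, isClosed_range_sigmaι V i⟩
  infer_instance

theorem refAt_trans {T : Scheme.{u}} {S R : Sieve T} {t : T} (hS : RefAt S t)
    (hR : ∀ {Z : Scheme.{u}} (f : Z ⟶ T), S f → ∀ z : Z, RefAt (R.pullback f) z) : RefAt R t := by
  classical
  obtain ⟨U, g, n, U', p, hg, ⟨u, hu⟩, hp, hps, hSp⟩ := hS
  haveI := hg
  haveI := hp
  let κ := ULift.{u} (Fin n)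
  let U'' : κ → Scheme.{u} := fun i => U' i.down
  have hR' : ∀ e : Σ i : κ, U'' i, RefAt (R.pullback (p e.1.down ≫ g)) e.2 := fun e => hR _ (hSp e.1.down) e.2
  choose V b m V' q hb hzb hq hqs hmem using hR'
  haveI := hb
  haveI := hq
  let P : (∐ U'') ⟶ U := Sigma.desc fun i => p i.down
  haveI hPf : IsFinite P := SGA1Q.isFinite_sigmaDesc _ fun i => hp i.down
  haveI : IsZariskiLocalAtSource @Etale.{u} := HasRingHomProperty.instIsZariskiLocalAtSource
  let B : (∐ V) ⟶ ∐ U'' := Sigma.desc fun e => b e ≫ Sigma.ι U'' e.1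
  haveI hB : Etale B := IsZariskiLocalAtSource.sigmaDesc fun e => inferInstance
  have hsB : ∀ x : ↥(∐ U''), P.base x = u → ∃ w, B.base w = x := fun x _ => by
    obtain ⟨i, z, rfl⟩ := (sigmaOpenCover U'').exists_eq x
    obtain ⟨v, hv⟩ := hzb ⟨i, z⟩
    refine ⟨(Sigma.ι V ⟨i, z⟩).base v, ?_⟩
    rw [← Scheme.Hom.comp_apply, Sigma.ι_desc, Scheme.Hom.comp_apply]
    exact congrArg (Sigma.ι U'' i).base hv
  obtain ⟨U₁, w, hw, ⟨u₁, hu₁⟩, k, hk⟩ := EtFound.exists_split' P B u hsB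
  haveI := hw
  let s : pullback P w ⟶ U₁ := pullback.snd P w
  haveI : IsFinite s := inferInstanceAs (IsFinite (pullback.snd P w))
  have hfin : (s ⁻¹' {u₁}).Finite := IsFinite.finite_preimage_singleton s u₁
  have hidx : ∀ x : ↥(∐ V), ∃ e, x ∈ Set.range (Sigma.ι V e) := fun x => by
    obtain ⟨e, y, hy⟩ := (sigmaOpenCover V).exists_eq x
    exact ⟨e, y, hy⟩
  choose idx hidx using hidx
  let F : Finset (Σ i : κ, U'' i) := hfin.toFinset.image fun x => idx (k x)
  let E : Set ↥(∐ V) := ⋃ e ∈ F, Set.range (Sigma.ι V e)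
  have hE : IsOpen E := isOpen_biUnion fun e _ => (Sigma.ι V e).opensRange.2
  let O : U₁.Opens := ⟨(s '' (k ⁻¹' Eᶜ))ᶜ, (s.isClosedMap _ (hE.isClosed_compl.preimage k.continuous)).isOpen_compl⟩
  have hu₁O : u₁ ∈ O := by
    rintro ⟨x, hx, hxu⟩
    exact hx (Set.mem_iUnion₂.2 ⟨idx (k x), Finset.mem_image.2 ⟨x, hfin.mem_toFinset.2 hxu, rfl⟩, hidx (k x)⟩)
  let kO : (s ⁻¹ᵁ O).toScheme ⟶ ∐ V := (s ⁻¹ᵁ O).ι ≫ k
  let J : Type u := Σ e : F, ULift.{u} (Fin (m e.1))
  haveI : Fintype J := inferInstance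
  let eJ := Fintype.equivFin J
  let pp : ∀ j : J, pullback kO (q j.1.1 j.2.down ≫ Sigma.ι V j.1.1) ⟶ O.toScheme :=
    fun j => pullback.fst _ _ ≫ (s ∣_ O)
  have hpf : ∀ j, IsFinite (pp j) := fun j => by
    haveI := isFinite_comp_sigmaι V j.1.1 (q j.1.1 j.2.down)
    haveI : IsFinite (s ∣_ O) := MorphismProperty.of_isPullback (P := @IsFinite) (isPullback_morphismRestrict s O).flip ‹IsFinite s›
    infer_instance
  refine ⟨O, O.ι ≫ w ≫ g, Fintype.card J, _, fun j => pp (eJ.symm j), inferInstance,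
    ⟨⟨u₁, hu₁O⟩, by simp only [Scheme.Hom.comp_apply]; exact (congrArg g hu₁).trans hu⟩,
    fun j => hpf _, fun x => ?_, fun j => ?_⟩
  · -- joint surjectivity
    have hPs : Surjective s := by
      haveI hP' : Surjective P := ⟨fun y => by
        obtain ⟨i, z, hz⟩ := hps y
        refine ⟨(Sigma.ι U'' ⟨i⟩).base z, ?_⟩
        rw [← Scheme.Hom.comp_apply, Sigma.ι_desc]
        exact hz⟩
      exact ⟨fun z => by
        obtain ⟨a, ha⟩ := hP'.surj (w z)
        obtain ⟨c, -, hc⟩ := Scheme.Pullback.exists_preimage_pullback (f := P) (g := w) a z ha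
        exact ⟨c, hc⟩⟩
    obtain ⟨y, hy⟩ := hPs.surj (O.ι x)
    have hyO : y ∈ s ⁻¹ᵁ O := by
      show s y ∈ O
      rw [hy]
      exact x.2
    have hyE : k y ∈ E := by
      by_contra hn
      exact hyO ⟨y, hn, rfl⟩
    obtain ⟨e, he, v, hv⟩ := Set.mem_iUnion₂.1 hyE
    obtain ⟨i, v', hv'⟩ := hqs e v
    let j : J := ⟨⟨e, he⟩, ⟨i⟩⟩
    let y' : ↥((s ⁻¹ᵁ O).toScheme) := ⟨y, hyO⟩
    have hkv : kO y' = (q e i ≫ Sigma.ι V e) v' :=
      (Scheme.Hom.comp_apply _ _ _).trans (((congrArg (Sigma.ι V e) hv').trans hv).symm.trans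
        (Scheme.Hom.comp_apply _ _ _).symm)
    obtain ⟨z, hz, -⟩ := Scheme.Pullback.exists_preimage_pullback (f := kO) (g := q e i ≫ Sigma.ι V e) _ v' hkv
    refine ⟨eJ j, ?_⟩
    show x ∈ Set.range (pp (eJ.symm (eJ j)))
    rw [eJ.symm_apply_apply]
    refine ⟨z, ?_⟩
    show (pullback.fst kO (q e i ≫ Sigma.ι V e) ≫ (s ∣_ O)) z = x
    rw [Scheme.Hom.comp_apply, hz]
    apply O.ι.isOpenEmbedding.injective
    refine (Scheme.Hom.comp_apply _ _ _).symm.trans ?_
    rw [morphismRestrict_ι, Scheme.Hom.comp_apply]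
    exact hy
  · show R (pp (eJ.symm j) ≫ O.ι ≫ w ≫ g)
    generalize eJ.symm j = a
    obtain ⟨⟨e, he⟩, ⟨i⟩⟩ := a
    have he' : (pullback.fst kO (q e i ≫ Sigma.ι V e) ≫ (s ∣_ O)) ≫ O.ι ≫ w ≫ g =
        pullback.snd kO (q e i ≫ Sigma.ι V e) ≫ (q e i ≫ b e) ≫ p e.1.down ≫ g := by
      rw [Category.assoc, morphismRestrict_ι_assoc]
      simp only [s]
      rw [← pullback.condition_assoc, ← reassoc_of% hk, ← Category.assoc (s ⁻¹ᵁ O).ι,
        ← Category.assoc (pullback.fst kO _) kO]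
      erw [pullback.condition (f := kO) (g := q e i ≫ Sigma.ι V e)]
      simp [B, P]
    show R ((pullback.fst kO (q e i ≫ Sigma.ι V e) ≫ (s ∣_ O)) ≫ O.ι ≫ w ≫ g)
    rw [he']
    exact R.downward_closed (hmem e i) _

/-- Sieves refined etale locally by finite surjections form a topology. -/
def hTop : GrothendieckTopology Scheme.{u} where
  sieves T := {S | ∀ t : T, RefAt S t}
  top_mem' T t := ⟨T, 𝟙 T, 1, fun _ => T, fun _ => 𝟙 T, inferInstance, ⟨t, rfl⟩, fun _ => inferInstance,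
    fun x => ⟨0, x, rfl⟩, fun _ => trivial⟩
  pullback_stable' T T' S a hS t' := refAt_pullback a (hS (a t'))
  transitive' T S hS R hR t := refAt_trans (hS t) fun f hf => hR hf

/-- The precoverage of this topology. -/
abbrev hK : Precoverage Scheme.{u} := hTop.toPrecoverage

theorem toGrothendieck_hK : (hK.{u}).toGrothendieck = hTop := by
  refine le_antisymm (GrothendieckTopology.toGrothendieck_toPrecoverage_le _) fun T S hS => ?_
  have h : (S.arrows : Presieve T) ∈ hK T := by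
    show Sieve.generate S.arrows ∈ hTop T
    rw [Sieve.generate_sieve]
    exact hS
  have h' := Precoverage.generate_mem_toGrothendieck h
  rwa [Sieve.generate_sieve] at h'

theorem mem_hK_iff {T : Scheme.{u}} {S : Sieve T} : S ∈ hK.toGrothendieck T ↔ ∀ t : T, RefAt S t := by
  rw [toGrothendieck_hK]
  rfl

theorem etalePrecoverage_le_hK : Scheme.etalePrecoverage ≤ hK.{u} := fun T R hR => by
  show Sieve.generate R ∈ hTop T
  intro t
  obtain ⟨E, rfl⟩ := (Precoverage.mem_iff_exists_zeroHypercover (J := Scheme.etalePrecoverage)).1 hR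
  have hE := (Scheme.presieve₀_mem_precoverage_iff E.toPreZeroHypercover).1 E.mem₀
  obtain ⟨i, x, hx⟩ := hE.1 t
  exact ⟨E.X i, E.f i, 1, fun _ => E.X i, fun _ => 𝟙 _, hE.2 i, ⟨x, hx⟩, fun _ => inferInstance,
    fun y => ⟨0, y, rfl⟩, fun _ => ⟨_, 𝟙 _, E.f i, Presieve.ofArrows.mk i, rfl⟩⟩

instance aEtCont_hK (S : Scheme.{u}) : BigSite.AEtCont hK S :=
  BigSite.aEtCont_of_le etalePrecoverage_le_hK S

end Groth.Agent.EtHDesc
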