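import Groth.Agent.EtHDesc.CechF
import Groth.Agent.EtHDesc.Descent
import Groth.Agent.SpObjSS.SiteLeray
import Groth.Agent.SiteBase.DerivedPrecomp

/-!
# Cohomology of the levels of the finite-surjection Cech complex
-/

set_option autoImplicit false

universe u

open CategoryTheory CategoryTheory.Limits CategoryTheory.Abelian AlgebraicGeometry Opposite

namespace Groth.Agent.EtHDesc

set_option backward.isDefEq.respectTransparency.types false

variable {W Y : Scheme.{u}}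

/-- The constant finite-surjection sheaf `ℤ`. -/
noncomputable abbrev cZ (W : Scheme.{u}) : AbH W :=
  (constantSheaf (QuotSh.J hK W) AddCommGrpCat.{u + 1}).obj (AddCommGrpCat.of (ULift.{u + 1} ℤ))

/-- Global sections as maps from the constant sheaf. -/
noncomputable def secTopIso (W : Scheme.{u}) : secTop (Y := W) ≅ SpObjSS.homFrom (cZ W) :=
  NatIso.ofComponents (fun G => AddEquiv.toAddCommGrpIso
      (((Sheaf.H.equiv₀ G Over.mkIdTerminal).symm.trans
        (Ext.addEquiv₀ : Ext (cZ W) G 0 ≃+ (cZ W ⟶ G)))))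
    (fun {G G'} g => by
      ext t
      show Ext.addEquiv₀ ((Sheaf.H.equiv₀ G' Over.mkIdTerminal).symm (g.hom.app _ t)) =
        Ext.addEquiv₀ ((Sheaf.H.equiv₀ G Over.mkIdTerminal).symm t) ≫ g
      rw [← Sheaf.H.equiv₀_symm_naturality Over.mkIdTerminal g t]
      obtain ⟨φ, hφ⟩ := Ext.addEquiv₀.symm.surjective ((Sheaf.H.equiv₀ G Over.mkIdTerminal).symm t)
      rw [← hφ]
      show Ext.addEquiv₀ ((Ext.mk₀ φ).comp (Ext.mk₀ g) (add_zero 0)) = Ext.addEquiv₀ (Ext.mk₀ φ) ≫ g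
      have hk : ∀ {A : AbH W} (ψ : cZ W ⟶ A), Ext.addEquiv₀ (Ext.mk₀ ψ) = ψ := fun ψ =>
        (Ext.addEquiv₀ (X := cZ W)).apply_symm_apply ψ
      rw [Ext.mk₀_comp_mk₀, hk, hk])

theorem nonempty_rightDerived_secTop (G : AbH W) (q : ℕ) :
    Nonempty (((secTop (Y := W)).rightDerived q).obj G ≅ AddCommGrpCat.of (BigSite.H hK W G q)) :=
  ⟨(SiteBase.rightDerivedCongr (secTopIso W) q).app G ≪≫ SpObjSS.rightDerivedHomFromIso (cZ W) q G⟩

/-- Transport of cohomology along an isomorphism. -/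
noncomputable def hfCongr {G G' : AbH W} (i : G ≅ G') (q : ℕ) :
    AddCommGrpCat.of (BigSite.H hK W G q) ≅ AddCommGrpCat.of (BigSite.H hK W G' q) :=
  (Abelian.extFunctorObj (cZ W) q).mapIso i

theorem nonempty_HF_of_iso (w : W ⟶ Y) (F : EtCoh.Ab Y) :
    Nonempty (piH ((EtCoh.pull w).obj F) ≅
      (BigSite.pullBig hK w AddCommGrpCat.{u + 1}).obj (piH F)) :=
  ⟨piHPullIso w F⟩

/-- Cohomology of the pulled back sheaf on a space over the base. -/
theorem nonempty_HF_pull (w : W ⟶ Y) (F : EtCoh.Ab Y) (q : ℕ) :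
    Nonempty (AddCommGrpCat.of (BigSite.H hK W ((BigSite.pullBig hK w AddCommGrpCat.{u + 1}).obj
      (piH F)) q) ≅ AddCommGrpCat.of (EtCoh.H W ((EtCoh.pull w).obj F) q)) := by
  obtain ⟨e⟩ := H_iso W ((EtCoh.pull w).obj F) q
  obtain ⟨i⟩ := nonempty_HF_of_iso w F
  exact ⟨hfCongr i.symm q ≪≫ AddEquiv.toAddCommGrpIso e.symm⟩

/-- Sections at an object are global sections of the restriction. -/
noncomputable def secAtIso (w : W ⟶ Y) :
    sheafToPresheaf (QuotSh.J hK Y) AddCommGrpCat.{u + 1} ⋙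
        (evaluation (Over Y)ᵒᵖ AddCommGrpCat.{u + 1}).obj (op (Over.mk w)) ≅
      BigSite.pullBig hK w AddCommGrpCat.{u + 1} ⋙ secTop (Y := W) :=
  NatIso.ofComponents (fun G => G.obj.mapIso
      (Over.isoMk (Iso.refl _) ((Category.id_comp _).trans (Category.id_comp _).symm) :
        (Over.map w).obj (Over.mk (𝟙 W)) ≅ Over.mk w).op)
    (fun {G G'} g => (g.hom.naturality _).symm)

theorem nonempty_rightDerived_secAt (w : W ⟶ Y) (F : EtCoh.Ab Y) (q : ℕ) :
    Nonempty (((sheafToPresheaf (QuotSh.J hK Y) AddCommGrpCat.{u + 1} ⋙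
        (evaluation (Over Y)ᵒᵖ AddCommGrpCat.{u + 1}).obj (op (Over.mk w))).rightDerived q).obj
          (piH F) ≅ AddCommGrpCat.of (EtCoh.H W ((EtCoh.pull w).obj F) q)) := by
  obtain ⟨e₁⟩ := nonempty_rightDerived_secTop
    ((BigSite.pullBig hK w AddCommGrpCat.{u + 1}).obj (piH F)) q
  obtain ⟨e₂⟩ := nonempty_HF_pull w F q
  exact ⟨(SiteBase.rightDerivedCongr (secAtIso w) q).app _ ≪≫
    (SiteBase.rightDerivedPrecompIso (BigSite.pullBig hK w AddCommGrpCat.{u + 1})
      (secTop (Y := W)) q).app _ ≪≫ e₁ ≪≫ e₂⟩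

end Groth.Agent.EtHDesc
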