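import Groth.Agent.EtHDesc.Eps
import Groth.Agent.BigSiteLib.FppfDesc.Main
import Groth.Agent.BigSiteLib.FppfDesc.Approx
import Groth.Agent.SGA1Q.SigmaFinite
import Groth.Agent.SiteBase.DerivedPrecomp
import Mathlib.Algebra.Homology.Refinements

/-!
# Cohomological descent from finite surjections to the big etale site
-/

set_option autoImplicit false

universe u

open CategoryTheory CategoryTheory.Limits AlgebraicGeometry Opposite

namespace Groth.Agent.EtHDesc

open BigSiteLib
open BigSiteLib.FppfDesc (exact_of_locally_boundary locally_boundary exists_kernel_section exists_coboundary scAt exactAt_of_scAt scAt_of_exactAt transportRes epi_map_pushBig exact_map_pushBig InPi inPi_pi inPi_of_iso inPi_cokernel mono_unit_piPull inPi_push_pull)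

set_option backward.isDefEq.respectTransparency.types false

variable {X : Scheme.{u}}

/-- The pullback of a small sheaf has no higher direct images in degree `m + 1`. -/
def Acy (m : ℕ) (X : Scheme.{u}) (F : EtCoh.Ab X) : Prop :=
  ∀ I : InjectiveResolution (piH F), ((scAt I.cocomplex m).map (epsX X)).Exact

theorem isZero_rightDerived_piH {m : ℕ} {F : EtCoh.Ab X} (h : Acy m X F) :
    IsZero (((epsX X).rightDerived (m + 1)).obj (piH F)) := by
  let I := injectiveResolution (piH F)
  refine IsZero.of_iso ?_ (I.isoRightDerivedObj (epsX X) (m + 1))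
  exact (HomologicalComplex.exactAt_iff_isZero_homology _ _).1
    (exactAt_of_scAt (((epsX X).mapHomologicalComplex _).obj I.cocomplex) m (h I))

/-- The resolution of a restricted pulled back sheaf. -/
noncomputable def pullRes {Y : Scheme.{u}} (p : Y ⟶ X) {F : EtCoh.Ab X} (I : InjectiveResolution (piH F)) :
    InjectiveResolution (piH ((EtCoh.pull p).obj F)) :=
  transportRes (piHPullIso p F) (SiteBase.mapResolution (BigSite.pullBig hK p AddCommGrpCat.{u + 1}) I)

theorem exists_short {Y : Scheme.{u}} (p : Y ⟶ X) [IsFinite p] [Surjective p] (F : EtCoh.Ab X) :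
    ∃ (S : ShortComplex (AbH X)) (F₁ : EtCoh.Ab X) (e₁ : S.X₁ ≅ piH F) (e₂ : S.X₂ ≅
      (BigSite.pushBig hK p AddCommGrpCat.{u + 1}).obj
        ((BigSite.pullBig hK p AddCommGrpCat.{u + 1}).obj (piH F))) (_ : piH F₁ ≅ S.X₃),
      S.ShortExact ∧ Epi ((epsX X).map S.g) ∧
        S.f = e₁.hom ≫ (BigSite.bigAdj hK p AddCommGrpCat.{u + 1}).unit.app (piH F) ≫ e₂.inv := by
  let M := (BigSite.pushBig hK p AddCommGrpCat.{u + 1}).obj
        ((BigSite.pullBig hK p AddCommGrpCat.{u + 1}).obj (piH F))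
  let j : piH F ⟶ M := (BigSite.bigAdj hK p AddCommGrpCat.{u + 1}).unit.app (piH F)
  haveI : Mono ((epsX X).map j) := mono_unit_piPull p F
  haveI : Mono j := (epsX X).mono_of_mono_map inferInstance
  have hA : InPi ((epsX X).obj (piH F)) := inPi_pi F
  have hB : InPi ((epsX X).obj M) := inPi_push_pull p F
  have hK := inPi_cokernel ((epsX X).map j) hA hB
  let H := ofInPi hK
  let g : M ⟶ H := (epsX X).preimage (show (epsX X).obj M ⟶ (epsX X).obj H from cokernel.π ((epsX X).map j))
  have hg : (epsX X).map g = cokernel.π ((epsX X).map j) := (epsX X).map_preimage _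
  have w : j ≫ g = 0 := (epsX X).map_injective (by
    rw [Functor.map_comp, hg, Functor.map_zero]; exact cokernel.condition _)
  haveI : Epi ((epsX X).map g) := by rw [hg]; exact (inferInstance : Epi (cokernel.π ((epsX X).map j)))
  haveI : Epi g := (epsX X).epi_of_epi_map inferInstance
  have hex : ((ShortComplex.mk j g w).map (epsX X)).Exact := by
    refine ShortComplex.exact_of_g_is_cokernel _ (IsColimit.ofIsoColimit (cokernelIsCokernel ((epsX X).map j)) ?_)
    exact Cofork.ext (Iso.refl _) ((Category.comp_id _).trans hg.symm)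
  haveI : IsIso ((BigSite.piEtAdj Scheme.etalePrecoverage X).counit.app (cokernel ((epsX X).map j))) := hK
  exact ⟨ShortComplex.mk j g w, _, Iso.refl _, Iso.refl _,
    isoPiH ((BigSite.resEt Scheme.etalePrecoverage X).obj (cokernel ((epsX X).map j)))
      (@asIso _ _ _ _ ((BigSite.piEtAdj Scheme.etalePrecoverage X).counit.app (cokernel ((epsX X).map j))) hK),
    ShortComplex.ShortExact.mk' (exact_of_eps hex) inferInstance inferInstance, inferInstance, by simp [j, M]⟩

theorem mono_rightDerived_unit {Y : Scheme.{u}} (p : Y ⟶ X) [IsFinite p] [Surjective p] (F : EtCoh.Ab X) (m : ℕ)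
    (ih : ∀ k < m, ∀ F₁ : EtCoh.Ab X, Acy k X F₁) :
    Mono (((epsX X).rightDerived (m + 1)).map
      ((BigSite.bigAdj hK p AddCommGrpCat.{u + 1}).unit.app (piH F))) := by
  obtain ⟨S, F₁, e₁, e₂, e₃, hS, hg, hf⟩ := exists_short p F
  letI := HasDerivedCategory.standard (AbH X)
  letI := HasDerivedCategory.standard (BigSite.Ab Scheme.etalePrecoverage X)
  obtain ⟨δ, w₁, w₂, w₃, -, h₂, h₃⟩ := TriCat.exists_rightDerived_ses (epsX X) hS m
  have hδ : δ = 0 := by
    rcases m with _ | k
    · haveI := hg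
      have hn : ((epsX X).rightDerived 0).map S.g ≫ (epsX X).rightDerivedZeroIsoSelf.hom.app S.X₃ =
          (epsX X).rightDerivedZeroIsoSelf.hom.app S.X₂ ≫ (epsX X).map S.g :=
        (epsX X).rightDerivedZeroIsoSelf.hom.naturality S.g
      haveI : Epi (((epsX X).rightDerived 0).map S.g) := by
        have : ((epsX X).rightDerived 0).map S.g = (epsX X).rightDerivedZeroIsoSelf.hom.app S.X₂ ≫ (epsX X).map S.g ≫
            inv ((epsX X).rightDerivedZeroIsoSelf.hom.app S.X₃) := by
          rw [← Category.assoc, ← hn, Category.assoc, IsIso.hom_inv_id, Category.comp_id]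
        rw [this]; infer_instance
      exact (cancel_epi (((epsX X).rightDerived 0).map S.g)).1 (by rw [comp_zero]; exact w₂)
    · exact ((isZero_rightDerived_piH (ih k k.lt_succ_self F₁)).of_iso
        (((epsX X).rightDerived (k + 1)).mapIso e₃).symm).eq_of_src _ _
  haveI : Mono (((epsX X).rightDerived (m + 1)).map S.f) := h₃.mono_g hδ
  have h : (BigSite.bigAdj hK p AddCommGrpCat.{u + 1}).unit.app (piH F) = e₁.inv ≫ S.f ≫ e₂.hom := by
    rw [hf]; simp
  rw [h, Functor.map_comp, Functor.map_comp]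
  infer_instance

/-- The functor `p_* p⁻¹` on fppf sheaves. -/
noncomputable abbrev pp {Y : Scheme.{u}} (p : Y ⟶ X) : AbH X ⥤ AbH X :=
  BigSite.pullBig hK p AddCommGrpCat.{u + 1} ⋙ BigSite.pushBig hK p AddCommGrpCat.{u + 1}

/-- Cocycles which become coboundaries on a finite surjective cover are locally coboundaries. -/
theorem boundary_of_finite (m : ℕ) (ih : ∀ k < m, ∀ (X : Scheme.{u}) (F : EtCoh.Ab X), Acy k X F)
    {Y : Scheme.{u}} (p : Y ⟶ X) [IsFinite p] [Surjective p] {F : EtCoh.Ab X} (I : InjectiveResolution (piH F))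
    (U : Over X) (x : (I.cocomplex.X (m + 1)).obj.obj (op U)) (hx : (I.cocomplex.d (m + 1) (m + 2)).hom.app (op U) x = 0)
    (y : (I.cocomplex.X m).obj.obj (op ((Over.map p).obj ((Over.pullback p).obj U))))
    (hy : (I.cocomplex.d m (m + 1)).hom.app _ y = (I.cocomplex.X (m + 1)).obj.map ((Over.mapPullbackAdj p).counit.app U).op x) :
    Presheaf.imageSieve (I.cocomplex.d m (m + 1)).hom x ∈ QuotSh.J Scheme.etalePrecoverage X U := by
  let Φ := pp p
  haveI : (BigSite.pushBig hK p AddCommGrpCat.{u + 1}).IsRightAdjoint :=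
    (BigSite.bigAdj hK p AddCommGrpCat.{u + 1}).isRightAdjoint
  haveI : PreservesFiniteLimits Φ := comp_preservesFiniteLimits _ _
  let u₀ := (BigSite.bigAdj hK p AddCommGrpCat.{u + 1}).unit
  let j := u₀.app (piH F)
  let J := injectiveResolution (Φ.obj (piH F))
  let φ := InjectiveResolution.desc j J I
  let K := (Φ.mapHomologicalComplex (ComplexShape.up ℕ)).obj I.cocomplex
  let iI : piH F ⟶ I.cocomplex.X 0 := I.ι.f 0
  let η : I.cocomplex ⟶ K :=
    { f := fun i => u₀.app (I.cocomplex.X i), comm' := fun i k _ => (u₀.naturality (I.cocomplex.d i k)).symm }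
  have hιd : Φ.map iI ≫ K.d 0 1 = 0 :=
    (Φ.map_comp iI (I.cocomplex.d 0 1)).symm.trans ((congrArg Φ.map I.ι_f_zero_comp_complex_d).trans (Φ.map_zero _ _))
  have hK : ∀ k, k < m → (scAt K k).Exact := fun k hk => by
    refine exact_of_eps ?_
    have h := exact_map_pushBig p (ih k hk Y _ (pullRes p I))
    exact h
  have h₀ : (ShortComplex.mk (Φ.map iI) (K.d 0 1) hιd).Exact :=
    ShortComplex.exact_of_f_is_kernel _ (KernelFork.mapIsLimit _ I.isLimitKernelFork Φ)
  haveI : Mono iI := inferInstanceAs (Mono (I.ι.f 0))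
  let g₁ : I.cocomplex.X (m + 1) ⊞ K.X m ⟶ I.cocomplex.X (m + 2) := biprod.fst ≫ I.cocomplex.d (m + 1) (m + 2)
  let g₂ : kernel g₁ ⟶ K.X (m + 1) := kernel.ι g₁ ≫ (biprod.fst ≫ η.f (m + 1) - biprod.snd ≫ K.d m (m + 1))
  let sA : kernel g₂ ⟶ I.cocomplex.X (m + 1) := kernel.ι g₂ ≫ kernel.ι g₁ ≫ biprod.fst
  let tA : kernel g₂ ⟶ K.X m := kernel.ι g₂ ≫ kernel.ι g₁ ≫ biprod.snd
  have hs : sA ≫ I.cocomplex.d (m + 1) (m + 2) = 0 := by
    simp only [sA, Category.assoc]
    rw [show kernel.ι g₁ ≫ biprod.fst ≫ I.cocomplex.d (m + 1) (m + 2) = 0 from kernel.condition g₁, comp_zero]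
  have ht : sA ≫ η.f (m + 1) = tA ≫ K.d m (m + 1) := by
    have h := kernel.condition g₂
    simp only [g₂, Preadditive.comp_sub, sub_eq_zero] at h
    simpa only [sA, tA, Category.assoc] using h
  let ιK : Φ.obj (piH F) ⟶ K.X 0 := Φ.map iI
  haveI : Mono ιK := Φ.map_mono iI
  obtain ⟨r, hr⟩ := exists_coboundary I J j φ (InjectiveResolution.desc_commutes_zero _ _ _) K ιK η
    (u₀.naturality iI) hιd h₀ m hK sA hs tA ht
  let ε := epsX X
  haveI := mono_rightDerived_unit p F m fun k hk => ih k hk X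
  haveI hmono : Mono ((ε.mapHomologicalComplex (ComplexShape.up ℕ) ⋙ HomologicalComplex.homologyFunctor _ _ (m + 1)).map φ) := by
    have h := InjectiveResolution.isoRightDerivedObj_hom_naturality j I J φ (InjectiveResolution.desc_commutes_zero _ _ _) ε (m + 1)
    have h' : (ε.mapHomologicalComplex (ComplexShape.up ℕ) ⋙ HomologicalComplex.homologyFunctor _ _ (m + 1)).map φ =
        (I.isoRightDerivedObj ε (m + 1)).inv ≫ (ε.rightDerived (m + 1)).map j ≫ (J.isoRightDerivedObj ε (m + 1)).hom := by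
      rw [h, Iso.inv_hom_id_assoc]
    rw [h']; infer_instance
  let εI := (ε.mapHomologicalComplex (ComplexShape.up ℕ)).obj I.cocomplex
  let εJ := (ε.mapHomologicalComplex (ComplexShape.up ℕ)).obj J.cocomplex
  let εφ : εI ⟶ εJ := (ε.mapHomologicalComplex (ComplexShape.up ℕ)).map φ
  have hs' : ε.map sA ≫ εI.d (m + 1) (m + 2) = 0 :=
    (ε.map_comp _ _).symm.trans ((congrArg ε.map hs).trans (ε.map_zero _ _))
  have hzero : εI.liftCycles (ε.map sA) (m + 2) (by simp) hs' ≫ εI.homologyπ (m + 1) = 0 := by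
    haveI : Mono (HomologicalComplex.homologyMap εφ (m + 1)) := hmono
    refine (cancel_mono (HomologicalComplex.homologyMap εφ (m + 1))).1 ?_
    rw [zero_comp, Category.assoc, HomologicalComplex.homologyπ_naturality, ← Category.assoc,
      HomologicalComplex.liftCycles_comp_cyclesMap]
    refine (εJ.liftCycles_comp_homologyπ_eq_zero_iff_up_to_refinements m (m + 1) (m + 2) (by simp) (by simp) _ _).2
      ⟨_, 𝟙 _, inferInstance, ε.map r, ?_⟩
    rw [Category.id_comp]
    exact ((ε.map_comp _ _).symm.trans (congrArg ε.map hr)).trans (ε.map_comp _ _)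
  obtain ⟨A', π, hπ, w, hw⟩ :=
    (εI.liftCycles_comp_homologyπ_eq_zero_iff_up_to_refinements m (m + 1) (m + 2) (by simp) (by simp) _ hs').1 hzero
  let b : (I.cocomplex.X (m + 1) ⊞ K.X m).obj.obj (op U) :=
    (biprod.inl : _ ⟶ I.cocomplex.X (m + 1) ⊞ K.X m).hom.app (op U) x + (biprod.inr : _ ⟶ I.cocomplex.X (m + 1) ⊞ K.X m).hom.app (op U) y
  have happ : ∀ {A B D : AbH X} (f : A ⟶ B) (g : B ⟶ D) (a : A.obj.obj (op U)),
      g.hom.app (op U) (f.hom.app (op U) a) = (f ≫ g).hom.app (op U) a := fun f g a =>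
    (ConcreteCategory.comp_apply _ _ a).symm
  have hb₁ : (biprod.fst : I.cocomplex.X (m + 1) ⊞ K.X m ⟶ _).hom.app (op U) b = x := by
    simp only [b, map_add, happ, biprod.inl_fst, biprod.inr_fst]
    exact add_zero x
  have hb₂ : (biprod.snd : I.cocomplex.X (m + 1) ⊞ K.X m ⟶ _).hom.app (op U) b = y := by
    simp only [b, map_add, happ, biprod.inl_snd, biprod.inr_snd]
    exact zero_add y
  obtain ⟨c, hc⟩ := exists_kernel_section g₁ b ((happ _ _ b).symm.trans ((congrArg _ hb₁).trans hx))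
  obtain ⟨a, ha⟩ := exists_kernel_section g₂ c (by
    refine (happ _ _ c).symm.trans ((congrArg _ hc).trans ?_)
    show (biprod.fst ≫ η.f (m + 1)).hom.app (op U) b - (biprod.snd ≫ K.d m (m + 1)).hom.app (op U) b = 0
    rw [← happ, ← happ, hb₁, hb₂]
    exact sub_eq_zero.2 hy.symm)
  have hsa : sA.hom.app (op U) a = x := by
    simp only [sA, ← happ]
    rw [ha, hc, hb₁]
  haveI := (Sheaf.isLocallySurjective_iff_epi' AddCommGrpCat.{u + 1} π).2 hπ
  refine GrothendieckTopology.superset_covering _ ?_ (Presheaf.imageSieve_mem (QuotSh.J Scheme.etalePrecoverage X) π.hom a)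
  rintro V k ⟨a', ha'⟩
  refine ⟨w.hom.app (op V) a', ?_⟩
  have h1 : (εI.d m (m + 1)).hom.app (op V) (w.hom.app (op V) a') = (ε.map sA).hom.app (op V) (π.hom.app (op V) a') :=
    ((ConcreteCategory.comp_apply _ _ a').symm.trans (congrArg (fun t => t.hom.app (op V) a') hw.symm)).trans
      (ConcreteCategory.comp_apply _ _ a')
  refine h1.trans ((congrArg _ ha').trans ?_)
  exact (ConcreteCategory.congr_hom (sA.hom.naturality k.op) a).trans
    (congrArg ((I.cocomplex.X (m + 1)).obj.map k.op) hsa)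

theorem sheafFor_et (G : AbH X) {Y : Over X} {I : Type u} (Z : I → Over X) (m : ∀ i, Z i ⟶ Y)
    (he : ∀ i, Etale (m i).left) (hs : ∀ x : Y.left, ∃ i, x ∈ Set.range (m i).left) :
    Presieve.IsSheafFor (G.obj ⋙ forget _) (Presieve.ofArrows Z m) :=
  (Presieve.isSheafFor_iff_generate _).2 (((isSheaf_iff_isSheaf_of_type _ _).1
    (Presheaf.isSheaf_comp_of_isSheaf _ _ _ ((epsX X).obj G).property)) _ (EtInd.ofArrows_mem_et Z m he hs))

/-- A section which is a boundary on the pieces of a disjoint union is a boundary. -/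
theorem imageSieve_of_disjoint {G H : AbH X} (d : G ⟶ H) {T V : Over X} (x : H.obj.obj (op T)) (k : V ⟶ T)
    {ι : Type u} (Z : ι → Over X) (j : ∀ i, Z i ⟶ V) (hj : ∀ i, IsOpenImmersion (j i).left)
    (hs : ∀ v : V.left, ∃ i, v ∈ Set.range (j i).left)
    (hd : ∀ i l, i ≠ l → Disjoint (Set.range (j i).left) (Set.range (j l).left))
    (h : ∀ i, Presheaf.imageSieve d.hom x (j i ≫ k)) : Presheaf.imageSieve d.hom x k := by
  have he : ∀ i, Etale (j i).left := fun i => by haveI := hj i; infer_instance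
  choose y hy using h
  obtain ⟨z, hz, -⟩ := (Presieve.isSheafFor_arrows_iff _ _).1 (sheafFor_et G Z j he hs) y fun i l W a b hab => by
    by_cases hil : i = l
    · subst hil
      haveI := hj i
      have : a = b := Over.OverMorphism.ext ((cancel_mono (j i).left).1 (congrArg CommaMorphism.left hab))
      rw [this]
    · refine (sheafFor_et G (Y := W) (fun e : PEmpty.{u + 1} => e.elim) (fun e => e.elim) (fun e => e.elim)
        fun w => False.elim ?_).isSeparatedFor.ext fun W' w' hw => by obtain ⟨e⟩ := hw; exact e.elim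
      refine Set.disjoint_left.1 (hd i l hil) ⟨a.left w, rfl⟩ ⟨b.left w, ?_⟩
      exact (congrArg (fun φ : W ⟶ V => φ.left w) hab).symm
  refine ⟨z, (sheafFor_et H Z j he hs).isSeparatedFor.ext fun W w hw => ?_⟩
  obtain ⟨i⟩ := hw
  show H.obj.map (j i).op (d.hom.app (op V) z) = H.obj.map (j i).op (H.obj.map k.op x)
  exact ((ConcreteCategory.congr_hom (d.hom.naturality (j i).op) z).symm.trans
    ((congrArg (d.hom.app _) (hz i)).trans (hy i))).trans (EtInd.mapP (P := H.obj ⋙ forget _) (j i) k x).symm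

theorem acy (m : ℕ) : ∀ (X : Scheme.{u}) (F : EtCoh.Ab X), Acy m X F := by
  induction m using Nat.strong_induction_on with
  | _ m ih =>
  intro X F I
  refine exact_of_locally_boundary fun T x hx => ?_
  have hfl := locally_boundary (scAt_of_exactAt I.cocomplex m (RDer.res_exactAt_succ I.cocomplex I.ι m)) x hx
  have hpt := mem_hK_iff.1 ((GrothendieckTopology.mem_over_iff _ _).1 hfl)
  choose U g n U₀ q hg hu hq hqs hmem0 using hpt
  let κ := fun t => ULift.{u} (Fin (n t))
  let Uf : ∀ t, κ t → Scheme.{u} := fun t i => U₀ t i.down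
  let U' : T.left → Scheme.{u} := fun t => ∐ Uf t
  let p : ∀ t, U' t ⟶ U t := fun t => Sigma.desc fun i => q t i.down
  have hp : ∀ t, IsFinite (p t) := fun t => SGA1Q.isFinite_sigmaDesc _ fun i => hq t i.down
  have hps : ∀ t, Surjective (p t) := fun t => ⟨fun y => by
    obtain ⟨i, z, hz⟩ := hqs t y
    refine ⟨Sigma.ι (Uf t) ⟨i⟩ z, ?_⟩
    rw [← Scheme.Hom.comp_apply, Sigma.ι_desc]
    exact hz⟩
  let a := fun t => g t ≫ T.hom
  let o := fun t => (Over.map (a t)).obj (Over.mk (𝟙 (U t)))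
  let k : ∀ t, o t ⟶ T := fun t => Over.homMk (g t) (Category.id_comp _).symm
  refine GrothendieckTopology.transitive _ (EtInd.ofArrows_mem_et o k hg fun t => ⟨t, hu t⟩) _ ?_
  rintro Z f ⟨_, c, _, ⟨t⟩, rfl⟩
  rw [Sieve.pullback_comp]
  refine GrothendieckTopology.pullback_stable _ c ?_
  haveI := hp t
  haveI := hps t
  let x' : (I.cocomplex.X (m + 1)).obj.obj (op (o t)) := (I.cocomplex.X (m + 1)).obj.map (k t).op x
  let W := (Over.map (a t)).obj ((Over.map (p t)).obj ((Over.pullback (p t)).obj (Over.mk (𝟙 (U t)))))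
  let cc : W ⟶ o t := (Over.map (a t)).map ((Over.mapPullbackAdj (p t)).counit.app _)
  have hmem : Presheaf.imageSieve (I.cocomplex.d m (m + 1)).hom x (cc ≫ k t) := by
    let V₀ : Over X := Over.mk ((p t ≫ g t) ≫ T.hom)
    let k₀ : V₀ ⟶ T := Over.homMk (p t ≫ g t)
    let Z : κ t → Over X := fun i => Over.mk ((q t i.down ≫ g t) ≫ T.hom)
    let j : ∀ i, Z i ⟶ V₀ := fun i => Over.homMk (Sigma.ι (Uf t) i) (by
      show Sigma.ι (Uf t) i ≫ (p t ≫ g t) ≫ T.hom = _
      simp [p, Z])
    have h0 : Presheaf.imageSieve (I.cocomplex.d m (m + 1)).hom x k₀ :=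
      imageSieve_of_disjoint _ x k₀ Z j (fun i => inferInstanceAs (IsOpenImmersion (Sigma.ι (Uf t) i)))
        (fun v => by
          obtain ⟨i, z, hz⟩ := (sigmaOpenCover (Uf t)).exists_eq v
          exact ⟨i, z, hz⟩)
        (fun i l hil => TopologicalSpace.Opens.coe_disjoint.2 (disjoint_opensRange_sigmaι (Uf t) i l hil))
        fun i => by
          have h1 := (Sieve.overEquiv_iff _ _).1 (hmem0 t i.down)
          have : j i ≫ k₀ = (Over.homMk (q t i.down ≫ g t) : Z i ⟶ T) := Over.OverMorphism.ext (by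
            show Sigma.ι (Uf t) i ≫ p t ≫ g t = q t i.down ≫ g t
            simp [p])
          rw [this]
          exact h1
    have hW : cc ≫ k t = Over.homMk (pullback.snd (𝟙 (U t)) (p t)) (by
        show pullback.snd (𝟙 (U t)) (p t) ≫ (p t ≫ g t) ≫ T.hom = W.hom
        simp only [Category.assoc]
        exact (Category.assoc _ _ _).symm) ≫ k₀ :=
      Over.OverMorphism.ext (by
        show pullback.fst (𝟙 (U t)) (p t) ≫ g t = pullback.snd (𝟙 (U t)) (p t) ≫ p t ≫ g t
        rw [← pullback.condition_assoc, Category.id_comp])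
    rw [hW]
    exact Sieve.downward_closed _ h0 _
  obtain ⟨y, hy⟩ := hmem
  have hnat : ∀ {q q' : ℕ} {V V' : Over X} (f : V ⟶ V') (z : (I.cocomplex.X q).obj.obj (op V')),
      (I.cocomplex.d q q').hom.app (op V) ((I.cocomplex.X q).obj.map f.op z) =
        (I.cocomplex.X q').obj.map f.op ((I.cocomplex.d q q').hom.app (op V') z) := fun f z =>
    ConcreteCategory.congr_hom ((I.cocomplex.d _ _).hom.naturality f.op) z
  have hres := boundary_of_finite m ih (p t) (pullRes (a t) I) (Over.mk (𝟙 (U t))) x'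
    ((hnat (k t) x).trans ((congrArg _ hx).trans (map_zero _))) y (hy.trans (by
      exact (EtInd.mapP (P := (I.cocomplex.X (m + 1)).obj ⋙ forget _) cc (k t) x).symm))
  rw [GrothendieckTopology.mem_over_iff] at hres ⊢
  refine GrothendieckTopology.superset_covering _ ?_ hres
  intro Z' f' hf'
  obtain ⟨z, hz⟩ := (Sieve.overEquiv_iff (Y := Over.mk (𝟙 (U t))) _ f').1 hf'
  refine (Sieve.overEquiv_iff _ f').2 ?_
  let e : Over.mk (f' ≫ (o t).hom) ⟶ (Over.map (a t)).obj (Over.mk (f' ≫ 𝟙 (U t))) :=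
    Over.homMk (𝟙 _) ((Category.id_comp _).trans (Category.assoc _ _ _))
  have hf : (Over.homMk f' : Over.mk (f' ≫ (o t).hom) ⟶ o t) =
      e ≫ (Over.map (a t)).map (Over.homMk f' : Over.mk (f' ≫ 𝟙 (U t)) ⟶ Over.mk (𝟙 (U t))) :=
    Over.OverMorphism.ext (Category.id_comp _).symm
  rw [hf]
  refine Sieve.downward_closed _ ?_ _
  show Presheaf.imageSieve (I.cocomplex.d m (m + 1)).hom x
    ((Over.map (a t)).map (Over.homMk f' : Over.mk (f' ≫ 𝟙 (U t)) ⟶ Over.mk (𝟙 (U t))) ≫ k t)
  exact ⟨z, hz.trans (EtInd.mapP (P := (I.cocomplex.X (m + 1)).obj ⋙ forget _) _ (k t) x)⟩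

end Groth.Agent.EtHDesc
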